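import Mathlib
import Cfsg.Agent.Lib.Helper74.O720.Defs
import Cfsg.Agent.Lib.Helper34.O720.SGN
import Cfsg.Agent.Lib.Helper69.O720.L4
import Cfsg.Agent.Lib.Helper96.O720.L3

set_option autoImplicit false

namespace Cfsg.Agent.Lib.Helper74.O720

variable {G : Type*} [Group G] [Finite G] [IsSimpleGroup G]

/-- [L5] -/
theorem L5 (h : Nat.card G = 720) (P : Sylow 3 G) (hM : Nat.card (Nz (P : Subgroup G)) = 72)
    (hC : Cz (P : Subgroup G) = (P : Subgroup G))
    (h8 : ∀ g : G, g ∉ Nz (P : Subgroup G) → Nat.card (Ig (Nz (P : Subgroup G)) g) = 8) (g g' : G)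
    (hg : g ∉ Nz (P : Subgroup G)) (hg' : g' ∉ Nz (P : Subgroup G)) (hgg' : g⁻¹ * g' ∉ Nz (P : Subgroup G)) :
    Nz (P : Subgroup G) ⊓ cj g (Nz (P : Subgroup G)) ⊓ cj g' (Nz (P : Subgroup G)) = ⊥ := by
  classical
  by_contra hne
  have hTle : Nz (P : Subgroup G) ⊓ cj g (Nz (P : Subgroup G)) ⊓ cj g' (Nz (P : Subgroup G)) ≤
      Ig (Nz (P : Subgroup G)) g := inf_le_left
  have hTcard : Nat.card ↥(Nz (P : Subgroup G) ⊓ cj g (Nz (P : Subgroup G)) ⊓
      cj g' (Nz (P : Subgroup G))) ∣ 8 := by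
    rw [← h8 g hg]; exact Subgroup.card_dvd_of_le hTle
  have hnt : Nontrivial ↥(Nz (P : Subgroup G) ⊓ cj g (Nz (P : Subgroup G)) ⊓
      cj g' (Nz (P : Subgroup G))) := (Subgroup.nontrivial_iff_ne_bot _).2 hne
  have h1lt := Finite.one_lt_card (α := ↥(Nz (P : Subgroup G) ⊓ cj g (Nz (P : Subgroup G)) ⊓
      cj g' (Nz (P : Subgroup G))))
  have h2 : 2 ∣ Nat.card ↥(Nz (P : Subgroup G) ⊓ cj g (Nz (P : Subgroup G)) ⊓
      cj g' (Nz (P : Subgroup G))) := by
    generalize Nat.card ↥(Nz (P : Subgroup G) ⊓ cj g (Nz (P : Subgroup G)) ⊓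
      cj g' (Nz (P : Subgroup G))) = n at hTcard h1lt
    have hle : n ≤ 8 := Nat.le_of_dvd (by norm_num) hTcard
    interval_cases n <;> omega
  have : Fact (Nat.Prime 2) := ⟨Nat.prime_two⟩
  obtain ⟨⟨s, hsT⟩, hos⟩ := exists_prime_orderOf_dvd_card' 2 h2
  have hos' : orderOf s = 2 := by
    rw [← hos]; exact (Subgroup.orderOf_mk s hsT).symm
  have hss : s * s = 1 := by rw [← pow_two, ← hos']; exact pow_orderOf_eq_one s
  have hs1 : s ≠ 1 := by
    rintro rfl
    rw [orderOf_one] at hos'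
    omega
  have := Fintype.ofFinite (G ⧸ Nz (P : Subgroup G))
  have hσσ : (MulAction.toPerm s : Equiv.Perm (G ⧸ Nz (P : Subgroup G))) * MulAction.toPerm s = 1 := by
    ext x
    simp only [Equiv.Perm.coe_mul, Function.comp_apply, MulAction.toPerm_apply, Equiv.Perm.coe_one,
      id_eq]
    rw [← mul_smul, hss, one_smul]
  have hsign : Equiv.Perm.sign (MulAction.toPerm s : Equiv.Perm (G ⧸ Nz (P : Subgroup G))) = 1 :=
    SGN h s
  have hcard10 : Fintype.card (G ⧸ Nz (P : Subgroup G)) = 10 := by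
    have h1 := Subgroup.card_mul_index (Nz (P : Subgroup G))
    rw [hM, h, Subgroup.index, Nat.card_eq_fintype_card] at h1
    omega
  have hfix1 : s • ((1 : G) : G ⧸ Nz (P : Subgroup G)) = ((1 : G) : G ⧸ Nz (P : Subgroup G)) :=
    smul_coset_eq_iff.2 (by rw [cj_one]; exact hsT.1.1)
  have hfix2 : s • (g : G ⧸ Nz (P : Subgroup G)) = (g : G ⧸ Nz (P : Subgroup G)) :=
    smul_coset_eq_iff.2 hsT.1.2
  have hfix3 : s • (g' : G ⧸ Nz (P : Subgroup G)) = (g' : G ⧸ Nz (P : Subgroup G)) :=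
    smul_coset_eq_iff.2 hsT.2
  have hd1 : ((1 : G) : G ⧸ Nz (P : Subgroup G)) ≠ (g : G ⧸ Nz (P : Subgroup G)) := by
    intro he
    rw [QuotientGroup.eq] at he
    exact hg (by simpa using he)
  have hd2 : ((1 : G) : G ⧸ Nz (P : Subgroup G)) ≠ (g' : G ⧸ Nz (P : Subgroup G)) := by
    intro he
    rw [QuotientGroup.eq] at he
    exact hg' (by simpa using he)
  have hd3 : (g : G ⧸ Nz (P : Subgroup G)) ≠ (g' : G ⧸ Nz (P : Subgroup G)) := by
    intro he
    rw [QuotientGroup.eq] at he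
    exact hgg' he
  have h3 : 3 ≤ (Finset.univ.filter fun x =>
      (MulAction.toPerm s : Equiv.Perm (G ⧸ Nz (P : Subgroup G))) x = x).card := by
    have hsub : ({((1 : G) : G ⧸ Nz (P : Subgroup G)), (g : G ⧸ Nz (P : Subgroup G)),
        (g' : G ⧸ Nz (P : Subgroup G))} : Finset (G ⧸ Nz (P : Subgroup G))) ⊆
        Finset.univ.filter fun x =>
          (MulAction.toPerm s : Equiv.Perm (G ⧸ Nz (P : Subgroup G))) x = x := by
      intro x hx
      simp only [Finset.mem_insert, Finset.mem_singleton] at hx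
      rw [Finset.mem_filter]
      refine ⟨Finset.mem_univ _, ?_⟩
      rcases hx with rfl | rfl | rfl
      · exact hfix1
      · exact hfix2
      · exact hfix3
    have hc3 : ({((1 : G) : G ⧸ Nz (P : Subgroup G)), (g : G ⧸ Nz (P : Subgroup G)),
        (g' : G ⧸ Nz (P : Subgroup G))} : Finset (G ⧸ Nz (P : Subgroup G))).card = 3 := by
      rw [Finset.card_insert_of_notMem, Finset.card_insert_of_notMem, Finset.card_singleton]
      · simpa using hd3
      · simp only [Finset.mem_insert, Finset.mem_singleton, not_or]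
        exact ⟨hd1, hd2⟩
    exact hc3.symm.le.trans (Finset.card_le_card hsub)
  have h6 := L4 hcard10 _ hσσ hsign h3
  have h4 := L3 h P hM hC g hg (h8 g hg) s hsT.1 hs1
  rw [Nat.card_eq_fintype_card, Fintype.card_subtype] at h4
  have heq : (Finset.univ.filter fun x : G ⧸ Nz (P : Subgroup G) => s • x = x) =
      (Finset.univ.filter fun x =>
      (MulAction.toPerm s : Equiv.Perm (G ⧸ Nz (P : Subgroup G))) x = x) := rfl
  rw [heq] at h4
  omega

end Cfsg.Agent.Lib.Helper74.O720
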